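import Mathlib

/-!
# Units of a tensor product of two domains over an algebraically closed field

If `A` is a finitely generated domain and `B` any domain over an algebraically closed field `k`, every
unit of `B ⊗ A` is `b ⊗ a`: for every valuation ring of `Frac B` containing `k` the valuation of the
specialisation of a unit at a point of `Spec A` is independent of the point.
-/

universe u v w
open TensorProduct
open scoped Classical
noncomputable section

namespace Groth.Agent.UnitTensor

variable {k : Type u} [Field k] {A : Type v} [CommRing A] [Algebra k A] {B : Type w} [CommRing B] [Algebra k B]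

/-- Specialisation at a point of `Spec A`. -/
def spec (φ : A →ₐ[k] k) : B ⊗[k] A →ₐ[k] B :=
  Algebra.TensorProduct.lift (AlgHom.id k B) ((Algebra.ofId k B).comp φ) fun _ _ => Commute.all _ _

@[simp] lemma spec_tmul (φ : A →ₐ[k] k) (r : B) (a : A) : spec φ (r ⊗ₜ a) = φ a • r := by
  simp [spec, Algebra.smul_def, mul_comm]

variable (B) in
/-- Coordinates along a basis of `A`. -/
def coord : B ⊗[k] A ≃ₗ[k] (Module.Basis.ofVectorSpaceIndex k A) →₀ B :=
  TensorProduct.equivFinsuppOfBasisRight (Module.Basis.ofVectorSpace k A)

lemma eq_sum_coord (x : B ⊗[k] A) :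
    x = (coord B x).sum fun i r => r ⊗ₜ Module.Basis.ofVectorSpace k A i := by
  conv_lhs => rw [← (coord B).symm_apply_apply x]
  exact TensorProduct.equivFinsuppOfBasisRight_symm_apply _ _

lemma spec_eq_sum (φ : A →ₐ[k] k) (x : B ⊗[k] A) :
    spec φ x = (coord B x).sum fun i r => φ (Module.Basis.ofVectorSpace k A i) • r := by
  conv_lhs => rw [eq_sum_coord x]
  simp [Finsupp.sum]

variable [IsAlgClosed k] [IsDomain A] [Algebra.FiniteType k A]

theorem exists_point {a : A} (ha : a ≠ 0) : ∃ ψ : A →ₐ[k] k, ψ a ≠ 0 := by
  have hnt : Nontrivial (Localization.Away a) :=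
    (IsLocalization.injective (Localization.Away a) (powers_le_nonZeroDivisors_of_noZeroDivisors ha)).nontrivial
  obtain ⟨m, hm⟩ := Ideal.exists_maximal (Localization.Away a)
  have : Algebra.FiniteType A (Localization.Away a) := Algebra.FiniteType.of_finitePresentation
  have : Algebra.FiniteType k (Localization.Away a) :=
    Algebra.FiniteType.trans (S := A) inferInstance inferInstance
  have : Algebra.FiniteType k (Localization.Away a ⧸ m) :=
    Algebra.FiniteType.of_surjective (f := Ideal.Quotient.mkₐ k m) Ideal.Quotient.mk_surjective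
  let := Ideal.Quotient.field m
  have : Module.Finite k (Localization.Away a ⧸ m) := finite_of_finite_type_of_isJacobsonRing k _
  let e : k ≃ₐ[k] Localization.Away a ⧸ m :=
    AlgEquiv.ofBijective (Algebra.ofId k _)
      (IsAlgClosed.algebraMap_bijective_of_isIntegral (k := k) (K := Localization.Away a ⧸ m))
  refine ⟨(e.symm.toAlgHom.comp (Ideal.Quotient.mkₐ k m)).comp (IsScalarTower.toAlgHom k A _), ?_⟩
  intro h
  have h2 : Ideal.Quotient.mk m (algebraMap A (Localization.Away a) a) = 0 := e.symm.injective (by simpa using h)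
  exact hm.ne_top (Ideal.eq_top_of_isUnit_mem _ (Ideal.Quotient.eq_zero_iff_mem.mp h2)
    (IsLocalization.Away.algebraMap_isUnit a))

/-- Tensors are separated by the points of `Spec A`. -/
theorem eq_zero_of_forall_spec {x : B ⊗[k] A} (h : ∀ φ : A →ₐ[k] k, spec φ x = 0) : x = 0 := by
  refine (coord B).injective ?_
  ext j
  rw [map_zero, Finsupp.zero_apply, ← Module.forall_dual_apply_eq_zero_iff k]
  intro θ
  have h0 : (coord B x).sum (fun i r => θ r • Module.Basis.ofVectorSpace k A i) = 0 := by
    by_contra hne
    obtain ⟨φ, hφ⟩ := exists_point (k := k) hne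
    refine hφ ?_
    have := congr_arg θ (h φ)
    rw [spec_eq_sum, map_zero] at this
    simpa [Finsupp.sum, mul_comm] using this
  have := congr_arg (fun y => (Module.Basis.ofVectorSpace k A).repr y j) h0
  simp only [Finsupp.sum, map_sum, map_smul, Module.Basis.repr_self, map_zero, Finsupp.coe_finsetSum,
    Finset.sum_apply, Finsupp.smul_apply, Finsupp.coe_zero, Pi.zero_apply] at this
  rw [Finset.sum_eq_single j (fun y _ hy => by simp [hy])
    (fun hy => by simp [Finsupp.notMem_support_iff.mp hy])] at this
  simpa using this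

variable [IsDomain B]

/-- The valuation of the specialisations of a tensor is bounded, with the bound attained on an open set. -/
lemma exists_bound (O : ValuationSubring (FractionRing B))
    (hO : ∀ c : k, algebraMap k (FractionRing B) c ∈ O) {x : B ⊗[k] A} (hx : x ≠ 0) :
    ∃ m : FractionRing B, m ≠ 0 ∧ ∃ a : A, a ≠ 0 ∧ ∀ φ : A →ₐ[k] k,
      O.valuation (algebraMap B _ (spec φ x)) ≤ O.valuation m ∧
        (φ a ≠ 0 → O.valuation (algebraMap B _ (spec φ x)) = O.valuation m) := by
  classical
  set b := Module.Basis.ofVectorSpace k A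
  let r : Module.Basis.ofVectorSpaceIndex k A → FractionRing B := fun i => algebraMap B _ (coord B x i)
  have hne : (coord B x).support.Nonempty := by
    simpa [Finsupp.support_nonempty_iff] using hx
  obtain ⟨j, hj, hmax⟩ := Finset.exists_max_image (coord B x).support (fun i => O.valuation (r i)) hne
  have hm : r j ≠ 0 := (map_ne_zero_iff _ (IsFractionRing.injective B _)).mpr (Finsupp.mem_support_iff.mp hj)
  have hk : ∀ c : k, O.valuation (algebraMap k _ c) ≤ 1 := fun c => (O.valuation_le_one_iff _).mpr (hO c)
  let N : Submodule k (FractionRing B) :=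
    { carrier := {y | O.valuation y < 1}
      add_mem' := fun {a b} ha hb => by
        show O.valuation (a + b) < 1
        exact Valuation.map_add_lt _ ha hb
      zero_mem' := by simp
      smul_mem' := fun c y hy => by
        show O.valuation (c • y) < 1
        rw [Algebra.smul_def, map_mul]
        exact mul_lt_one_of_nonneg_of_lt_one_right (hk c) zero_le hy }
  have h1 : (1 : FractionRing B) ∉ N := fun h => lt_irrefl (1 : _) (by simp [N] at h)
  obtain ⟨θ, hθ1, hθN⟩ := Submodule.exists_le_ker_of_notMem h1
  refine ⟨r j, hm, (coord B x).sum fun i _ => θ (r i / r j) • b i, fun h0 => hθ1 ?_, fun φ => ?_⟩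
  · have := congr_arg (fun y => b.repr y j) h0
    simp only [Finsupp.sum, map_sum, map_smul, b.repr_self, map_zero, Finsupp.coe_finsetSum,
      Finset.sum_apply, Finsupp.smul_apply, Finsupp.coe_zero, Pi.zero_apply] at this
    rw [Finset.sum_eq_single j (fun y _ hy => by simp [hy]) (fun hy => absurd hj hy)] at this
    simpa [div_self hm] using this
  · have hspec : algebraMap B (FractionRing B) (spec φ x) / r j =
        (coord B x).sum fun i _ => φ (b i) • (r i / r j) := by
      rw [spec_eq_sum]
      simp only [Finsupp.sum, map_sum, Finset.sum_div]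
      refine Finset.sum_congr rfl fun i _ => ?_
      rw [Algebra.smul_def, map_mul, ← IsScalarTower.algebraMap_apply, mul_div_assoc, ← Algebra.smul_def]
    have hle : O.valuation (algebraMap B (FractionRing B) (spec φ x) / r j) ≤ 1 := by
      rw [hspec]
      refine Valuation.map_sum_le _ fun i hi => ?_
      show O.valuation (φ (b i) • (r i / r j)) ≤ 1
      rw [Algebra.smul_def, map_mul]
      refine mul_le_one' (hk _) ?_
      rw [map_div₀, div_le_one₀ (pos_of_ne_zero ((Valuation.ne_zero_iff _).mpr hm))]
      exact hmax i hi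
    have hpos : 0 < O.valuation (r j) := pos_of_ne_zero ((Valuation.ne_zero_iff _).mpr hm)
    rw [map_div₀, div_le_one₀ hpos] at hle
    refine ⟨hle, fun ha => le_antisymm hle (not_lt.mp fun hlt => ha ?_)⟩
    have hN : algebraMap B (FractionRing B) (spec φ x) / r j ∈ N := by
      show O.valuation _ < 1
      rwa [map_div₀, div_lt_one₀ hpos]
    have h0 := hθN hN
    rw [LinearMap.mem_ker, hspec] at h0
    simpa [Finsupp.sum, mul_comm] using h0

/-- Every unit of `B ⊗ A` is an elementary tensor. -/
theorem exists_eq_tmul_of_mul_eq_one {x y : B ⊗[k] A} (hxy : x * y = 1) :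
    ∃ (b : B) (a : A), x = b ⊗ₜ a := by
  classical
  obtain ⟨φ0, -⟩ := exists_point (k := k) (one_ne_zero (α := A))
  have hnt : Nontrivial (B ⊗[k] A) := (spec (B := B) φ0).toRingHom.domain_nontrivial
  have hx : x ≠ 0 := left_ne_zero_of_mul_eq_one hxy
  have hy : y ≠ 0 := right_ne_zero_of_mul_eq_one hxy
  have hs : ∀ φ : A →ₐ[k] k, algebraMap B (FractionRing B) (spec φ x) * algebraMap B _ (spec φ y) = 1 := fun φ => by
    rw [← map_mul, ← map_mul, hxy, map_one, map_one]
  -- the ratio of two specialisations lies in every valuation ring containing `k`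
  have hratio : ∀ φ : A →ₐ[k] k, algebraMap B (FractionRing B) (spec φ x) /
      algebraMap B _ (spec φ0 x) ∈ (algebraMap k (FractionRing B)).range := by
    intro φ
    by_contra hnot
    have : IsIntegrallyClosedIn (algebraMap k (FractionRing B)).range (FractionRing B) := by
      rw [Subring.isIntegrallyClosedIn_iff]
      intro z hz
      have hint : IsIntegral k z := by
        obtain ⟨p, hp, hpz⟩ := hz
        obtain ⟨q, hq, -, hqm⟩ := Polynomial.lifts_and_degree_eq_and_monic
          (f := (algebraMap k (FractionRing B)).rangeRestrict)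
          ((Polynomial.mem_lifts p).mpr
            (Polynomial.map_surjective _ (algebraMap k (FractionRing B)).rangeRestrict_surjective p)) hp
        refine ⟨q, hqm, ?_⟩
        rw [← hpz, ← hq, Polynomial.eval₂_map]
        rfl
      exact minpoly.mem_range_of_degree_eq_one k z
        (IsAlgClosed.degree_eq_one_of_irreducible k (minpoly.irreducible hint))
    obtain ⟨O, hkO, hzO⟩ := Subring.exists_le_valuationSubring_of_isIntegrallyClosedIn hnot
    have hO : ∀ c : k, algebraMap k (FractionRing B) c ∈ O := fun c => hkO ⟨c, rfl⟩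
    obtain ⟨m, hm, a, ha, hma⟩ := exists_bound O hO hx
    obtain ⟨m', hm', a', ha', hma'⟩ := exists_bound O hO hy
    obtain ⟨φ1, hφ1⟩ := exists_point (k := k) (mul_ne_zero ha ha')
    rw [map_mul] at hφ1
    have hmm : O.valuation m * O.valuation m' = 1 := by
      rw [← (hma φ1).2 (left_ne_zero_of_mul hφ1), ← (hma' φ1).2 (right_ne_zero_of_mul hφ1), ← map_mul, hs,
        map_one]
    have heq : ∀ ψ : A →ₐ[k] k, O.valuation (algebraMap B (FractionRing B) (spec ψ x)) = O.valuation m := by
      intro ψ
      refine le_antisymm (hma ψ).1 ?_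
      have h1 : O.valuation (algebraMap B (FractionRing B) (spec ψ x)) *
          O.valuation (algebraMap B (FractionRing B) (spec ψ y)) = 1 := by rw [← map_mul, hs, map_one]
      have hpos : 0 < O.valuation (algebraMap B (FractionRing B) (spec ψ y)) :=
        pos_of_ne_zero (right_ne_zero_of_mul_eq_one h1)
      refine le_of_mul_le_mul_right ?_ hpos
      rw [h1]
      exact (mul_le_mul_right (hma' ψ).1 _).trans hmm.le
    refine hzO ((O.valuation_le_one_iff _).mp ?_)
    rw [map_div₀, heq, heq, div_self ((Valuation.ne_zero_iff _).mpr hm)]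
  choose lam hlam using fun φ => RingHom.mem_range.mp (hratio φ)
  set β := spec φ0 x
  have hβ : β ≠ 0 := left_ne_zero_of_mul_eq_one (b := spec φ0 y) (by rw [← map_mul, hxy, map_one])
  have hspec : ∀ φ : A →ₐ[k] k, spec φ x = lam φ • β := fun φ => by
    refine IsFractionRing.injective B (FractionRing B) ?_
    rw [Algebra.smul_def, map_mul, ← IsScalarTower.algebraMap_apply, hlam,
      div_mul_cancel₀ _ ((map_ne_zero_iff _ (IsFractionRing.injective B _)).mpr hβ)]
  obtain ⟨θ, hθ⟩ := Module.Projective.exists_dual_ne_zero k hβ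
  refine ⟨β, (θ β)⁻¹ • (coord B x).sum (fun i r => θ r • Module.Basis.ofVectorSpace k A i), ?_⟩
  rw [← sub_eq_zero]
  refine eq_zero_of_forall_spec fun φ => ?_
  rw [map_sub, spec_tmul, sub_eq_zero, map_smul, smul_eq_mul, hspec]
  congr 1
  have h := congr_arg θ (hspec φ)
  rw [spec_eq_sum, map_smul, smul_eq_mul] at h
  rw [eq_inv_mul_iff_mul_eq₀ hθ, mul_comm, ← h]
  simp [Finsupp.sum, mul_comm]

end Groth.Agent.UnitTensor
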